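import Mathlib.Algebra.Homology.Homotopy
import Mathlib.Algebra.Homology.Embedding.IsSupported
import Mathlib.Algebra.Homology.Embedding.CochainComplex
import Mathlib.CategoryTheory.Abelian.Basic
import Mathlib.CategoryTheory.Limits.Preserves.Shapes.Kernels
import Mathlib.CategoryTheory.Limits.Preserves.Finite
import Mathlib.CategoryTheory.Limits.Shapes.ZeroMorphisms

/-!
# Godement type replacements of bounded below complexes

Given, for every object, a map to an object with a property `Q` which becomes a split monomorphism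
after each of a family of right exact additive functors, a bounded below complex maps to a complex
with terms in `Q` by a map which becomes a homotopy equivalence after each functor.
-/

open CategoryTheory Limits

namespace GrothLib.Godement25

universe w v v' u u'

variable {A : Type u} [Category.{v} A] [Abelian A] {B : Type u'} [Category.{v'} B] [Abelian B]
  {I : Type w} (L : I → A ⥤ B) [∀ x, (L x).Additive] [∀ x, PreservesFiniteColimits (L x)]
  (F : CochainComplex A ℤ) (Q : A → Prop)

/-- The data in one degree. -/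
structure St (n : ℤ) where
  P : A
  G : A
  η : P ⟶ G
  δ : ∀ p : ℤ, P ⟶ F.X p
  ι : F.X n ⟶ P
  hι : ∀ p, ι ≫ δ p = -F.d n p
  hδ : ∀ p r, δ p ≫ F.d p r = 0
  fl : Q G
  sp : ∀ x, IsSplitMono ((L x).map η)

/-- The relation between consecutive degrees. -/
structure Step {n m : ℤ} (s : St L F Q n) (t : St L F Q m) where
  j : s.G ⟶ t.P
  rel : s.η ≫ j = -(s.δ m ≫ t.ι)
  hj : ∀ p, j ≫ t.δ p = 0
  homotopy : ∀ (x : I) (r : (L x).obj s.G ⟶ (L x).obj s.P), (L x).map s.η ≫ r = 𝟙 _ →
    ∃ (σ : (L x).obj t.P ⟶ (L x).obj (F.X m)) (τ : (L x).obj t.P ⟶ (L x).obj s.G),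
      (L x).map t.ι ≫ σ = 𝟙 _ ∧ (L x).map t.ι ≫ τ = 0 ∧
      (L x).map j ≫ σ = -(r ≫ (L x).map (s.δ m)) ∧
      (L x).map j ≫ τ = 𝟙 _ - r ≫ (L x).map s.η ∧
      σ ≫ (L x).map t.ι + τ ≫ (L x).map j = 𝟙 _

variable (T : A → A) (η : ∀ P, P ⟶ T P) (hT : ∀ P, Q (T P))
  (hη : ∀ P x, IsSplitMono ((L x).map (η P))) (hQ : ∀ Z : A, IsZero Z → Q Z)

/-- The first degree. -/
noncomputable def initSt (n : ℤ) : St L F Q n where
  P := F.X n
  G := T _
  η := η _
  δ p := -F.d n p
  ι := 𝟙 _
  hι p := Category.id_comp _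
  hδ p r := by simp
  fl := hT _
  sp := hη _

/-- Degrees below the bound. -/
noncomputable def zeroSt (n : ℤ) (hn : IsZero (F.X n)) : St L F Q n where
  P := F.X n
  G := F.X n
  η := 𝟙 _
  δ _ := 0
  ι := 𝟙 _
  hι p := hn.eq_of_src _ _
  hδ p r := zero_comp
  fl := hQ _ hn
  sp x := by rw [CategoryTheory.Functor.map_id]; infer_instance

/-- The map whose cokernel is the next object. -/
noncomputable def nextMap {n : ℤ} (s : St L F Q n) (m : ℤ) : s.P ⟶ F.X m ⊞ s.G :=
  biprod.lift (s.δ m) s.η

/-- The next degree. -/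
noncomputable def nextSt {n : ℤ} (s : St L F Q n) (m : ℤ) : St L F Q m where
  P := cokernel (nextMap L F Q s m)
  G := T _
  η := η _
  δ p := cokernel.desc _ (-(biprod.fst ≫ F.d m p)) (by simp [nextMap, s.hδ])
  ι := biprod.inl ≫ cokernel.π _
  hι p := by simp
  hδ p r := by ext1; simp
  fl := hT _
  sp := hη _

/-- The next degree follows. -/
noncomputable def nextStep {n : ℤ} (s : St L F Q n) (m : ℤ) :
    Step L F Q s (nextSt L F Q T η hT hη s m) where
  j := biprod.inr ≫ cokernel.π _
  rel := by
    have h : biprod.lift (s.δ m) s.η ≫ cokernel.π (nextMap L F Q s m) = 0 := cokernel.condition _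
    rw [biprod.lift_eq, Preadditive.add_comp, Category.assoc, Category.assoc] at h
    exact eq_neg_of_add_eq_zero_right h
  hj p := by simp [nextSt]
  homotopy x r hr := by
    let H := L x
    have hc : IsColimit (CokernelCofork.ofπ (H.map (cokernel.π (nextMap L F Q s m)))
        (by rw [← H.map_comp, cokernel.condition, H.map_zero] :
          H.map (nextMap L F Q s m) ≫ _ = 0)) :=
      CokernelCofork.mapIsColimit _ (cokernelIsCokernel (nextMap L F Q s m)) H
    have hm₁ : H.map (nextMap L F Q s m) ≫ H.map biprod.fst = H.map (s.δ m) := by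
      rw [← H.map_comp, nextMap, biprod.lift_fst]
    have hm₂ : H.map (nextMap L F Q s m) ≫ H.map biprod.snd = H.map s.η := by
      rw [← H.map_comp, nextMap, biprod.lift_snd]
    obtain ⟨σ, hσ⟩ : ∃ σ : H.obj (cokernel (nextMap L F Q s m)) ⟶ H.obj (F.X m),
        H.map (cokernel.π (nextMap L F Q s m)) ≫ σ =
          H.map biprod.fst - H.map biprod.snd ≫ r ≫ H.map (s.δ m) :=
      ⟨_, (CokernelCofork.IsColimit.desc' hc _ (by
        rw [Preadditive.comp_sub, hm₁, reassoc_of% hm₂, ← Category.assoc (H.map s.η), hr,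
          Category.id_comp, sub_self])).2⟩
    obtain ⟨τ, hτ⟩ : ∃ τ : H.obj (cokernel (nextMap L F Q s m)) ⟶ H.obj s.G,
        H.map (cokernel.π (nextMap L F Q s m)) ≫ τ =
          H.map biprod.snd - H.map biprod.snd ≫ r ≫ H.map s.η :=
      ⟨_, (CokernelCofork.IsColimit.desc' hc _ (by
        rw [Preadditive.comp_sub, hm₂, reassoc_of% hm₂, ← Category.assoc (H.map s.η), hr,
          Category.id_comp, sub_self])).2⟩
    have : Epi (H.map (cokernel.π (nextMap L F Q s m))) := epi_of_isColimit_cofork hc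
    refine ⟨σ, τ, ?_, ?_, ?_, ?_, ?_⟩
    · change H.map (biprod.inl ≫ cokernel.π _) ≫ σ = 𝟙 (H.obj (F.X m))
      rw [H.map_comp, Category.assoc, hσ, Preadditive.comp_sub, ← H.map_comp, ← H.map_comp_assoc]
      simp
    · change H.map (biprod.inl ≫ cokernel.π _) ≫ τ = _
      rw [H.map_comp, Category.assoc, hτ, Preadditive.comp_sub, ← H.map_comp, ← H.map_comp_assoc]
      simp
    · change H.map (biprod.inr ≫ cokernel.π _) ≫ σ = _
      rw [H.map_comp, Category.assoc, hσ, Preadditive.comp_sub, ← H.map_comp, ← H.map_comp_assoc]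
      simp [H]
    · change H.map (biprod.inr ≫ cokernel.π _) ≫ τ = _
      rw [H.map_comp, Category.assoc, hτ, Preadditive.comp_sub, ← H.map_comp, ← H.map_comp_assoc]
      simp [H]
    · suffices key : σ ≫ H.map (biprod.inl ≫ cokernel.π _) + τ ≫ H.map (biprod.inr ≫ cokernel.π _) =
          𝟙 (H.obj (cokernel (nextMap L F Q s m))) from key
      rw [← cancel_epi (H.map (cokernel.π (nextMap L F Q s m))), Preadditive.comp_add,
        reassoc_of% hσ, reassoc_of% hτ]
      have e : H.map (biprod.fst : F.X m ⊞ s.G ⟶ _) ≫ H.map biprod.inl +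
          H.map biprod.snd ≫ H.map biprod.inr = 𝟙 _ := by
        rw [← H.map_comp, ← H.map_comp, ← H.map_add, biprod.total, H.map_id]
      have e2 : H.map (s.δ m) ≫ H.map biprod.inl ≫ H.map (cokernel.π (nextMap L F Q s m)) +
          H.map s.η ≫ H.map biprod.inr ≫ H.map (cokernel.π (nextMap L F Q s m)) = 0 := by
        rw [← H.map_comp, ← H.map_comp, ← H.map_comp, ← H.map_comp, ← H.map_add]
        have h : biprod.lift (s.δ m) s.η ≫ cokernel.π (nextMap L F Q s m) = 0 := cokernel.condition _
        rw [biprod.lift_eq, Preadditive.add_comp, Category.assoc, Category.assoc] at h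
        rw [h, H.map_zero]
      rw [H.map_comp, H.map_comp, Preadditive.sub_comp, Preadditive.sub_comp, Category.comp_id]
      simp only [Category.assoc]
      rw [sub_add_sub_comm, ← Category.assoc (H.map biprod.fst), ← Category.assoc (H.map biprod.snd),
        ← Preadditive.add_comp, e, Category.id_comp, ← Preadditive.comp_add, ← Preadditive.comp_add,
        e2, comp_zero, comp_zero, sub_zero]

/-- From below the bound to the bound or below. -/
noncomputable def zeroStep {n m : ℤ} (hn : IsZero (F.X n)) (t : St L F Q m) (hι : IsIso t.ι) :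
    Step L F Q (zeroSt L F Q hQ n hn) t where
  j := 0
  rel := hn.eq_of_src _ _
  hj _ := zero_comp
  homotopy x r _ := by
    have h0 : IsZero ((L x).obj (zeroSt L F Q hQ n hn).G) := (L x).map_isZero hn
    exact ⟨inv ((L x).map t.ι), 0, IsIso.hom_inv_id _, comp_zero, h0.eq_of_src _ _, h0.eq_of_src _ _,
      by simp⟩

/-- Iteration of the construction. -/
noncomputable def iterSt : ℕ → ∀ n : ℤ, St L F Q n
  | 0 => fun n => initSt L F Q T η hT hη n
  | k + 1 => fun n => nextSt L F Q T η hT hη (iterSt k (n - 1)) n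

variable (a : ℤ) (hF : ∀ n < a, IsZero (F.X n))

/-- The degree `n` data. -/
noncomputable def st (n : ℤ) : St L F Q n :=
  if h : n < a then zeroSt L F Q hQ n (hF n h) else iterSt L F Q T η hT hη (n - a).toNat n

theorem nonempty_step (n m : ℤ) (h : n + 1 = m) :
    Nonempty (Step L F Q (st L F Q T η hT hη hQ a hF n) (st L F Q T η hT hη hQ a hF m)) := by
  by_cases hn : n < a
  · rw [st, dif_pos hn]
    refine ⟨zeroStep L F Q hQ (hF n hn) _ ?_⟩
    by_cases hm : m < a
    · rw [st, dif_pos hm]
      exact inferInstanceAs (IsIso (𝟙 (F.X m)))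
    · rw [st, dif_neg hm, show (m - a).toNat = 0 by omega]
      exact inferInstanceAs (IsIso (𝟙 (F.X m)))
  · obtain rfl : n = m - 1 := by omega
    rw [st, dif_neg hn, st, dif_neg (show ¬ m < a by omega),
      show (m - a).toNat = (m - 1 - a).toNat + 1 by omega]
    exact ⟨nextStep L F Q T η hT hη _ m⟩

/-- A chosen step. -/
noncomputable def step (n m : ℤ) (h : n + 1 = m) :
    Step L F Q (st L F Q T η hT hη hQ a hF n) (st L F Q T η hT hη hQ a hF m) :=
  (nonempty_step L F Q T η hT hη hQ a hF n m h).some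

local notation "S" => st L F Q T η hT hη hQ a hF
local notation "J" => step L F Q T η hT hη hQ a hF

/-- The differential. -/
noncomputable def dG (i k : ℤ) : (S i).G ⟶ (S k).G :=
  if h : i + 1 = k then (J i k h).j ≫ (S k).η else 0

theorem dG_eq {i k : ℤ} (h : i + 1 = k) :
    dG L F Q T η hT hη hQ a hF i k = (J i k h).j ≫ (S k).η := dif_pos h

/-- The replacement. -/
noncomputable def cxG : CochainComplex A ℤ where
  X n := (S n).G
  d i k := dG L F Q T η hT hη hQ a hF i k
  shape i k h := dif_neg h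
  d_comp_d' i k l hik hkl := by
    rw [dG_eq L F Q T η hT hη hQ a hF hik, dG_eq L F Q T η hT hη hQ a hF hkl, Category.assoc,
      reassoc_of% (J k l hkl).rel]
    simp [reassoc_of% (J i k hik).hj]

/-- The map to the replacement. -/
noncomputable def toG : F ⟶ cxG L F Q T η hT hη hQ a hF where
  f n := (S n).ι ≫ (S n).η
  comm' i k (h : i + 1 = k) := by
    change ((S i).ι ≫ (S i).η) ≫ dG L F Q T η hT hη hQ a hF i k = F.d i k ≫ (S k).ι ≫ (S k).η
    rw [dG_eq L F Q T η hT hη hQ a hF h, Category.assoc, reassoc_of% (J i k h).rel]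
    simp [reassoc_of% (S i).hι]

include hF in
theorem isStrictlyGE_cxG : (cxG L F Q T η hT hη hQ a hF).IsStrictlyGE a := by
  rw [CochainComplex.isStrictlyGE_iff]
  intro i hi
  have e : st L F Q T η hT hη hQ a hF i = zeroSt L F Q hQ i (hF i hi) := dif_pos hi
  change IsZero (S i).G
  rw [e]
  exact hF i hi

theorem Q_cxG (n : ℤ) : Q ((cxG L F Q T η hT hη hQ a hF).X n) := (S n).fl

theorem exists_homotopyEquiv (x : I) :
    ∃ e : HomotopyEquiv (((L x).mapHomologicalComplex _).obj F)
        (((L x).mapHomologicalComplex _).obj (cxG L F Q T η hT hη hQ a hF)),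
      e.hom = ((L x).mapHomologicalComplex _).map (toG L F Q T η hT hη hQ a hF) := by
  let r : ∀ n, (L x).obj (S n).G ⟶ (L x).obj (S n).P := fun n =>
    have := (S n).sp x; retraction ((L x).map (S n).η)
  have hr : ∀ n, (L x).map (S n).η ≫ r n = 𝟙 _ := fun n =>
    have := (S n).sp x; IsSplitMono.id ((L x).map (S n).η)
  choose σ τ hσι hτι hjσ hjτ htot using fun n m (h : n + 1 = m) => (J n m h).homotopy x (r n) (hr n)
  have hk : ∀ k : ℤ, k - 1 + 1 = k := fun k => sub_add_cancel k 1
  let ψ : ((L x).mapHomologicalComplex _).obj (cxG L F Q T η hT hη hQ a hF) ⟶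
      ((L x).mapHomologicalComplex _).obj F :=
    { f := fun k => r k ≫ σ (k - 1) k (hk k)
      comm' := fun i k (h : i + 1 = k) => by
        obtain rfl : i = k - 1 := by omega
        change (r (k - 1) ≫ σ (k - 1 - 1) (k - 1) (hk _)) ≫ (L x).map (F.d (k - 1) k) =
          (L x).map (dG L F Q T η hT hη hQ a hF (k - 1) k) ≫ r k ≫ σ (k - 1) k (hk k)
        rw [dG_eq L F Q T η hT hη hQ a hF h, Functor.map_comp, Category.assoc, Category.assoc,
          ← Category.assoc ((L x).map (S k).η), hr, Category.id_comp, hjσ]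
        have h1 : σ (k - 1 - 1) (k - 1) (hk _) ≫ (L x).map (F.d (k - 1) k) =
            -(L x).map ((S (k - 1)).δ k) := by
          have h2 := congrArg (· ≫ (L x).map ((S (k - 1)).δ k)) (htot (k - 1 - 1) (k - 1) (hk _))
          simp only [Preadditive.add_comp, Category.assoc, ← Functor.map_comp, (S (k - 1)).hι,
            (J (k - 1 - 1) (k - 1) (hk _)).hj, Functor.map_zero, comp_zero, add_zero,
            Category.id_comp, Functor.map_neg, Preadditive.comp_neg] at h2
          rw [← h2, neg_neg]
        rw [h1, Preadditive.comp_neg] }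
  let hh : Homotopy (ψ ≫ ((L x).mapHomologicalComplex _).map (toG L F Q T η hT hη hQ a hF)) (𝟙 _) :=
    { hom := fun i k => if h : k + 1 = i then -(r i ≫ τ k i h) else 0
      zero := fun i k h => dif_neg h
      comm := fun k => by
        rw [dNext_eq _ (show (ComplexShape.up ℤ).Rel k (k + 1) from rfl),
          prevD_eq _ (show (ComplexShape.up ℤ).Rel (k - 1) k from hk k), dif_pos rfl, dif_pos (hk k)]
        change (r k ≫ σ (k - 1) k (hk k)) ≫ (L x).map ((S k).ι ≫ (S k).η) =
          (L x).map (dG L F Q T η hT hη hQ a hF k (k + 1)) ≫ (-(r (k + 1) ≫ τ k (k + 1) rfl)) +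
            (-(r k ≫ τ (k - 1) k (hk k))) ≫ (L x).map (dG L F Q T η hT hη hQ a hF (k - 1) k) +
              𝟙 ((L x).obj (S k).G)
        rw [dG_eq L F Q T η hT hη hQ a hF rfl, dG_eq L F Q T η hT hη hQ a hF (hk k),
          Preadditive.comp_neg, Preadditive.neg_comp, Functor.map_comp, Functor.map_comp,
          Functor.map_comp, Category.assoc, Category.assoc, Category.assoc,
          ← Category.assoc ((L x).map (S (k + 1)).η), hr, Category.id_comp, hjτ]
        have h1 := congrArg (fun g => r k ≫ g ≫ (L x).map (S k).η) (htot (k - 1) k (hk k))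
        simp only [Preadditive.add_comp, Preadditive.comp_add, Category.assoc, Category.id_comp] at h1
        rw [← h1]
        abel }
  refine ⟨⟨((L x).mapHomologicalComplex _).map (toG L F Q T η hT hη hQ a hF), ψ,
    Homotopy.ofEq ?_, hh⟩, rfl⟩
  ext k
  change (L x).map ((S k).ι ≫ (S k).η) ≫ r k ≫ σ (k - 1) k (hk k) = 𝟙 _
  rw [Functor.map_comp, Category.assoc, ← Category.assoc ((L x).map (S k).η), hr, Category.id_comp,
    hσι]

include hT hη hQ hF in
theorem exists_replacement :
    ∃ (G : CochainComplex A ℤ) (φ : F ⟶ G), G.IsStrictlyGE a ∧ (∀ n, Q (G.X n)) ∧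
      ∀ x, ∃ e : HomotopyEquiv (((L x).mapHomologicalComplex _).obj F)
        (((L x).mapHomologicalComplex _).obj G), e.hom = ((L x).mapHomologicalComplex _).map φ :=
  ⟨_, toG L F Q T η hT hη hQ a hF, isStrictlyGE_cxG L F Q T η hT hη hQ a hF,
    Q_cxG L F Q T η hT hη hQ a hF, exists_homotopyEquiv L F Q T η hT hη hQ a hF⟩

end GrothLib.Godement25
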