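import Groth.Agent.Lib.Godement25.Basic
import Groth.Agent.S0866
import Groth.Prelude.Def_CohCx
import Mathlib.Topology.Sheaves.Skyscraper
import Mathlib.Topology.Sheaves.Flasque
import Mathlib.Algebra.Homology.Homotopy

/-!
# Flasque replacements of bounded below complexes of sheaves on a space
-/

set_option backward.isDefEq.respectTransparency false

universe u

open CategoryTheory Limits Opposite TopologicalSpace

namespace GrothLib.Godement25

variable {X : TopCat.{u}}

/-- The stalk at a point, as a functor on sheaves. -/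
noncomputable abbrev st' (x : X) : CohTop.Ab X ⥤ AddCommGrpCat.{u} :=
  sheafToPresheaf (Opens.grothendieckTopology X) AddCommGrpCat.{u} ⋙
    TopCat.Presheaf.stalkFunctor AddCommGrpCat.{u} x

/-- The stalk functor is a left adjoint. -/
noncomputable def stalkAdj (x : X) [∀ U : Opens X, Decidable (x ∈ U)] :
    st' x ⊣ skyscraperSheafFunctor (X := X) (C := AddCommGrpCat.{u}) x :=
  stalkSkyscraperSheafAdjunction (X := X) (C := AddCommGrpCat.{u}) x

theorem preservesColimits_stalk (x : X) : PreservesColimitsOfSize.{0, 0} (st' x) := by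
  classical
  exact (stalkAdj x).leftAdjoint_preservesColimits

instance preservesFiniteColimits_stalk (x : X) : PreservesFiniteColimits (st' x) := by
  have := preservesColimits_stalk x
  infer_instance

instance additive_stalk (x : X) : (st' x).Additive := by
  have : PreservesColimitsOfShape (Discrete WalkingPair) (st' x) := inferInstance
  have : PreservesBinaryBiproducts (st' x) :=
    preservesBinaryBiproducts_of_preservesBinaryCoproducts _
  exact Functor.additive_of_preservesBinaryBiproducts _

instance preservesMono_stalk (x : X) : (st' x).PreservesMonomorphisms :=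
  TopCat.Presheaf.stalkFunctor_preserves_mono (C := AddCommGrpCat.{u}) x

instance preservesHomology_stalk (x : X) : (st' x).PreservesHomology :=
  ((st' x).exact_tfae.out 2 0).2 fun S hS => by
    have := hS.mono_f
    have := hS.epi_g
    exact { exact := (((st' x).preservesFiniteColimits_tfae.out 3 0 (a := PreservesFiniteColimits (st' x))
              (b := ∀ S : ShortComplex (CohTop.Ab X), S.ShortExact → (S.map (st' x)).Exact ∧
                Epi ((st' x).map S.g))).1
              inferInstance S hS).1
            mono_f := (st' x).map_mono S.f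
            epi_g := (st' x).map_epi S.g }

theorem isSplitMono_stalk_unit (F : CohTop.Ab X) (x : X) :
    IsSplitMono ((st' x).map ((TopCat.Sheaf.pullbackPushforwardAdjunction AddCommGrpCat.{u}
      (TopCat.adj₁.counit.app X)).unit.app F)) := by
  classical
  let f := TopCat.adj₁.counit.app X
  let adjU := TopCat.Sheaf.pullbackPushforwardAdjunction AddCommGrpCat.{u} f
  let K : CohTop.Ab ((forget TopCat.{u} ⋙ TopCat.discrete).obj X) :=
    skyscraperSheaf (X := (forget TopCat.{u} ⋙ TopCat.discrete).obj X) x ((st' x).obj F)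
  let η : F ⟶ (CohTop.push f).obj K := (stalkAdj x).unit.app F
  let w : (CohTop.push f).obj ((CohTop.pull f).obj F) ⟶
      (skyscraperSheafFunctor (X := X) (C := AddCommGrpCat.{u}) x).obj ((st' x).obj F) :=
    (CohTop.push f).map ((adjU.homEquiv F K).symm η)
  have hη : adjU.unit.app F ≫ w = (stalkAdj x).unit.app F :=
    ((adjU.homEquiv_unit _ _ _).symm.trans ((adjU.homEquiv F K).apply_symm_apply η))
  refine IsSplitMono.mk' ⟨(st' x).map w ≫ (stalkAdj x).counit.app _, ?_⟩
  rw [← Category.assoc, ← (st' x).map_comp]
  exact (congrArg (fun g => (st' x).map g ≫ (stalkAdj x).counit.app ((st' x).obj F)) hη).trans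
    ((stalkAdj x).left_triangle_components F)

theorem isFlasque_of_isZero (Z : CohTop.Ab X) (hZ : IsZero Z) : TopCat.Sheaf.IsFlasque Z := by
  refine ⟨fun {U V} i => ?_⟩
  have h : IsZero (Z.obj.obj V) :=
    ((evaluation _ _).obj V).map_isZero
      ((sheafToPresheaf (Opens.grothendieckTopology X) AddCommGrpCat.{u}).map_isZero hZ)
  exact ⟨fun g g' _ => h.eq_of_src _ _⟩

theorem isIso_of_stalk {A B : CohTop.Ab X} (g : A ⟶ B) (h : ∀ x : X, IsIso ((st' x).map g)) :
    IsIso g := by
  have : ∀ x : X, IsIso ((TopCat.Presheaf.stalkFunctor AddCommGrpCat.{u} x).map g.hom) := h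
  exact TopCat.Presheaf.isIso_of_stalkFunctor_map_iso _

theorem quasiIso_of_stalk {F G : CochainComplex (CohTop.Ab X) ℤ} (φ : F ⟶ G)
    (h : ∀ x : X, QuasiIso (((st' x).mapHomologicalComplex _).map φ)) : QuasiIso φ := by
  refine ⟨fun i => ?_⟩
  rw [quasiIsoAt_iff_isIso_homologyMap]
  refine isIso_of_stalk _ fun x => ?_
  have h1 : IsIso (HomologicalComplex.homologyMap (((st' x).mapHomologicalComplex _).map φ) i) :=
    (quasiIsoAt_iff_isIso_homologyMap _ i).1 inferInstance
  have := ShortComplex.mapHomologyIso_hom_naturality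
    (φ := (HomologicalComplex.shortComplexFunctor _ _ i).map φ) (st' x)
  have h2 : IsIso (ShortComplex.homologyMap
      ((st' x).mapShortComplex.map ((HomologicalComplex.shortComplexFunctor _ _ i).map φ))) := h1
  have e : (st' x).map (ShortComplex.homologyMap ((HomologicalComplex.shortComplexFunctor _ _ i).map φ)) =
      (ShortComplex.mapHomologyIso _ (st' x)).inv ≫ ShortComplex.homologyMap
        ((st' x).mapShortComplex.map ((HomologicalComplex.shortComplexFunctor _ _ i).map φ)) ≫
      (ShortComplex.mapHomologyIso _ (st' x)).hom := by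
    rw [this, Iso.inv_hom_id_assoc]
  change IsIso ((st' x).map (ShortComplex.homologyMap _))
  rw [e]
  infer_instance

theorem exists_flasque_replacement (F : CochainComplex (CohTop.Ab X) ℤ) (a : ℤ)
    (hF : F.IsStrictlyGE a) :
    ∃ (G : CochainComplex (CohTop.Ab X) ℤ) (φ : F ⟶ G), G.IsStrictlyGE a ∧ QuasiIso φ ∧
      (∀ n : ℤ, TopCat.Sheaf.IsFlasque (G.X n)) ∧
      ∀ x : X, ∃ e : HomotopyEquiv ((CohCx.stalkCx x).obj F) ((CohCx.stalkCx x).obj G),
        e.hom = (CohCx.stalkCx x).map φ := by
  obtain ⟨G, φ, hGE, hfl, he⟩ := exists_replacement (I := X) st' F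
    (fun Z => TopCat.Sheaf.IsFlasque Z)
    (fun P => (CohTop.push (TopCat.adj₁.counit.app X)).obj
      ((CohTop.pull (TopCat.adj₁.counit.app X)).obj P))
    (fun P => (TopCat.Sheaf.pullbackPushforwardAdjunction AddCommGrpCat.{u}
      (TopCat.adj₁.counit.app X)).unit.app P)
    (fun P => (Groth.Agent.S0866.result P).2) isSplitMono_stalk_unit isFlasque_of_isZero a
    (fun n hn => F.isZero_of_isStrictlyGE a n hn)
  refine ⟨G, φ, hGE, quasiIso_of_stalk φ fun x => ?_, hfl, he⟩
  obtain ⟨e, hee⟩ := he x
  rw [← hee]
  infer_instance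

end GrothLib.Godement25
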